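import Cfsg.Agent.Lib.CosetEnum.HeS44Pts.Data

/-! Generated certificate. -/

set_option autoImplicit false
set_option maxRecDepth 20000

namespace Cfsg.Lib.CosetEnum.HeS44Pts

theorem linOrbit0_ok : orbitOK tabP linOrb0 linPos0 13 85 85 linWords0 85 0 = true := by
  decide +kernel

theorem linNest0_ok : nestOK tabP 13 linLevel0 linWords1 = true := by
  decide +kernel

theorem linOrbit1_ok : orbitOK tabP linOrb1 linPos1 13 85 20 linWords1 20 0 = true := by
  decide +kernel

theorem linNest1_ok : nestOK tabP 13 linLevel1 linWords2 = true := by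
  decide +kernel

theorem linOrbit2_ok : orbitOK tabP linOrb2 linPos2 13 85 16 linWords2 16 0 = true := by
  decide +kernel

theorem linNest2_ok : nestOK tabP 13 linLevel2 linWords3 = true := by
  decide +kernel

theorem linOrbit3_ok : orbitOK tabP linOrb3 linPos3 13 85 36 linWords3 36 0 = true := by
  decide +kernel

theorem linNest3_ok : nestOK tabP 13 linLevel3 [] = true := by
  decide +kernel

theorem fullOrbit0_ok : orbitOK tabP fullOrb0 fullPos0 13 85 85 fullWords0 85 0 = true := by
  decide +kernel

theorem fullNest0_ok : nestOK tabP 13 fullLevel0 fullWords1 = true := by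
  decide +kernel

theorem fullOrbit1_ok : orbitOK tabP fullOrb1 fullPos1 13 85 64 fullWords1 64 0 = true := by
  decide +kernel

theorem fullNest1_ok : nestOK tabP 13 fullLevel1 fullWords2 = true := by
  decide +kernel

theorem fullOrbit2_ok : orbitOK tabP fullOrb2 fullPos2 13 85 15 fullWords2 15 0 = true := by
  decide +kernel

theorem fullNest2_ok : nestOK tabP 13 fullLevel2 fullWords3 = true := by
  decide +kernel

theorem fullOrbit3_ok : orbitOK tabP fullOrb3 fullPos3 13 85 12 fullWords3 12 0 = true := by
  decide +kernel

theorem fullNest3_ok : nestOK tabP 13 fullLevel3 fullWords4 = true := by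
  decide +kernel

theorem fullOrbit4_ok : orbitOK tabP fullOrb4 fullPos4 13 85 2 fullWords4 2 0 = true := by
  decide +kernel

theorem fullNest4_ok : nestOK tabP 13 fullLevel4 [] = true := by
  decide +kernel

end Cfsg.Lib.CosetEnum.HeS44Pts
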