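import Cfsg.Agent.Lib.CosetEnum.HeS44Pts.Data
import Cfsg.Agent.Lib.CosetEnum.HeS44.Data
import Cfsg.Agent.Lib.CosetEnum.Restrict
import Cfsg.Agent.Lib.CosetEnum.SpPoints

/-! Generated certificate. -/

set_option autoImplicit false
set_option maxRecDepth 20000

namespace Cfsg.Lib.CosetEnum.HeS44Pts

theorem permQ_ok : permOK tabQ 7 425 [] 425 0 = true := by
  decide +kernel

theorem permP_ok : permOK tabP 13 85 [] 85 0 = true := by
  decide +kernel

theorem bigOrbit_ok : orbitOK HeS44.tabP bigOrbit bigPos 7 2058 425 invWords 425 0 = true := by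
  decide +kernel

theorem restrict_ok : restrictOK HeS44.tabP bigOrbit tabQ 7 7 425 invWords 425 0 = true := by
  decide +kernel

theorem blocks_ok : ((List.range 425).all fun j => Nat.blt (tabB.getP j) 85 &&
    (List.range 7).all fun g =>
      Nat.beq (tabB.getP (img tabQ 7 g j)) (img tabP 13 g (tabB.getP j))) = true := by
  decide +kernel

theorem section_ok : ((List.range 85).all fun p => Nat.blt (tabR.getP p) 425 &&
    Nat.beq (tabB.getP (tabR.getP p)) p) = true := by
  decide +kernel

theorem extra_ok : ((List.range 85).all fun p => (List.range 6).all fun t =>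
    Nat.beq (twalk tabP 13 (extraWords.getD t []) p) (img tabP 13 (7 + t) p)) = true := by
  decide +kernel

theorem cube_ok : ((List.range 2058).all fun p =>
    Nat.beq (twalk HeS44.tabP 7 (cubeWord.map fun g => invWords.getD g []).flatten p)
      (twalk HeS44.tabP 7 (HeS44.subWords.getD 6 []) p)) = true := by
  decide +kernel

theorem points_ok : SpGeom.pointsOK tabV tabIdx tabP linear mats 13 85 85 0 = true := by
  decide +kernel

theorem mats_ok : mats.all (fun rows => decide (SpGeom.matOf rows * Matrix.J (Fin 2) GF4 *
    (SpGeom.matOf rows).transpose = Matrix.J (Fin 2) GF4)) = true := by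
  decide +kernel

end Cfsg.Lib.CosetEnum.HeS44Pts
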