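import Cfsg.Agent.Lib.CosetEnum.Defs

/-! Generated table data. -/

set_option autoImplicit false
set_option maxRecDepth 20000

namespace Cfsg.Lib.CosetEnum.HeS44Pts

/-- Table data. -/
def fullOrb0_0_0 : Tab :=
  (.node 1 (.leaf 0x2800005000006000002b00004c00009000003f00004c0000300000440000480000d000003b00004800007000002e0000400000d000001f0000400000b000003700004000004000003600004000003000003400004000001000001900003c0000b000001d00003c0000700000480000380000700000390000380000400000380000380000300000350000380000100000270000340000c000004f00003400008000003300003400007000004100003400005000003e00003400003000005200002c0000d000001100002c0000b000001000002c00004000001e0000280000b00000040000280000700000030000280000600000310000240000d000000f00002400003000000a0000240000000000460000200000e000004c0000200000b000002200002000001000004000001c0000d000003d00001c0000b000001400001c00009000002500001c00004000002400001c00003000001800001c00002000001a00001c00001000001b00001c00000000004a0000180000e00000120000180000b000002300001800009000002a00001800007000000500001800006000002100001400008000002000001400007000000800001400004000003a0000100000e00000290000100000b000000c00000c00008000000e00000c00007000000200000c00004000000d00000800007000001600000400008000001700000400007000001500000400004000000600000400002000000b00000000004000000100000000003000000900000000002000000700000000001000000000000000000) (.leaf 0x300000d000003000002d0000cc0000c00000420000c00000700000540000a00000d000004900009c0000d00000510000980000d000004b0000940000d000001300009400007000004500008c0000d00000470000740000c000004d0000680000d000005300006800008000003c0000680000400000320000640000e000002c00006000008000002600006000003000001c00005c0000d000002f0000580000700000500000540000e00000430000540000d000004e00005000007))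

/-- Table data. -/
def fullOrb0_0 : Tab :=
  fullOrb0_0_0

end Cfsg.Lib.CosetEnum.HeS44Pts
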