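import Cfsg.Agent.Lib.CosetEnum.Defs

/-! Generated table data. -/

set_option autoImplicit false
set_option maxRecDepth 20000

namespace Cfsg.Lib.CosetEnum.HeS44Pts

/-- Table data. -/
def fullOrb1_0_0 : Tab :=
  (.leaf 0x4c00009400001000002700008000005000004700007800000000002100007000003000003d00006400007000004800006400006000004200005c00007000002f00005c00006000003300005800007000003700004800004000004100004400004000004a00004400002000004600004400001000004d00004400000000001c00004000005000004400004000004000004000004000002000002d00003c00004000002b00003c00003000001d00003800000000000600003400002000001600003400001000001a00003000004000002800002c00003000003500002c00001000004e00002c00000000003200002800007000004f00002800006000001500002800004000002500002800001000003a00002400007000002900002400004000001700002000007000002e00002000006000001b00002000002000001400001c00007000005300001c00003000002400001c00000000001f00001800007000002c00001800006000001900001800005000000500001800004000003600001800002000002a00001800001000003100001800000000003b00001400006000002200001400004000005000001000007000004300001000006000000800001000004000000700000c00004000000d00000c00000000002300000800007000001800000800004000000b00000800002000002000000400007000005200000400006000001100000400004000000a00000400002000001200000400000000000900000000002000000c00000000001000000e00000000000000000100000000000)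

/-- Table data. -/
def fullOrb1_0 : Tab :=
  fullOrb1_0_0

end Cfsg.Lib.CosetEnum.HeS44Pts
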