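import Cfsg.Agent.Lib.CosetEnum.Defs

/-! Generated table data. -/

set_option autoImplicit false
set_option maxRecDepth 20000

namespace Cfsg.Lib.CosetEnum.HeS44Pts

/-- Table data. -/
def fullOrb2_0_0 : Tab :=
  (.leaf 0x3c00001800003000003000001000003000003f00000c00004000002600000800005000004500000800004000004900000800003000003900000800001000003800000800000000003e00000400004000004b00000400003000003400000400001000000f00000400000000001e00000000001000000300000000000000000200000000000)

/-- Table data. -/
def fullOrb2_0 : Tab :=
  fullOrb2_0_0

end Cfsg.Lib.CosetEnum.HeS44Pts
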