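import Cfsg.Agent.Lib.CosetEnum.Defs

/-! Generated table data. -/

set_option autoImplicit false
set_option maxRecDepth 20000

namespace Cfsg.Lib.CosetEnum.HeS44Pts

/-- Table data. -/
def fullOrb3_0_0 : Tab :=
  (.leaf 0x3000001400002000004900001400000000003400000c00002000003c00000c00001000001e00000c00000000002600000800002000003f00000400002000004500000400001000003e00000000002000004b00000000001000000f00000000000000000300000000000)

/-- Table data. -/
def fullOrb3_0 : Tab :=
  fullOrb3_0_0

end Cfsg.Lib.CosetEnum.HeS44Pts
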