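import Cfsg.Agent.Lib.CosetEnum.Defs

/-! Generated table data. -/

set_option autoImplicit false
set_option maxRecDepth 20000

namespace Cfsg.Lib.CosetEnum.HeS44Pts

/-- Table data. -/
def linOrb0_0_0 : Tab :=
  (.node 1 (.leaf 0x100000380000d000002c00003400015000003200003400010000004800003000014000003d00003000004000001a00002c00015000002a00002c00014000000e00002c0000c000000300002c00007000001800002c00003000002b00002800010000001400002800007000005000002800004000003400002800003000003600002800001000004200002400014000003800002400003000003500002400001000001100002000015000004e00002000014000005300002000011000002000002000007000002e00002000004000001e00002000003000001f00002000001000004400001c00014000004a00001c00011000002f00001c00010000001b00001c0000d000004c00001c0000c000003900001c00007000001700001c00005000002200001c00001000001d0000180001400000120000180000c00000240000140001400000460000140001100000210000140000d000003700001000015000002d00001000014000004d00001000010000000a0000100000d00000290000100000c000000800001000007000000d00001000005000002800000c00015000001900000c00014000002300000c00011000000c00000c0000d000000200000c00004000004700000800014000003300000800010000000500000400015000004100000400014000003a0000040001100000270000040001000000160000040000d000001500000400004000000600000000007000000b00000000004000000100000000003000000900000000002000000700000000001000000000000000000) (.leaf 0x5400010c0000d00000130000bc0001000000430000a80001400000520000a40001200000510000a000015000004b0000980000700000450000900000700000300000780000300000040000740000400000310000640000d000003b00006400005000004900006400003000002600006000004000001c00006000003000003c00006000001000004f0000540000f000004000005400004000003f00004800004000003e00004800001000002500004400010000000f00004400007))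

/-- Table data. -/
def linOrb0_0 : Tab :=
  linOrb0_0_0

end Cfsg.Lib.CosetEnum.HeS44Pts
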