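import Cfsg.Agent.Lib.CosetEnum.Defs

/-! Generated table data. -/

set_option autoImplicit false
set_option maxRecDepth 20000

namespace Cfsg.Lib.CosetEnum.HeS44Pts

/-- Table data. -/
def linOrb1_0_0 : Tab :=
  (.leaf 0x5400002400006000003c00001800006000003000001400006000004500001000006000003800001000000000003f00000c00006000001300000c0000000000510000080000a000004b00000800006000003e00000800004000002600000800002000003900000800001000004900000400006000000400000400004000000f00000400003000003400000400001000001000000000002000001e00000000001000000300000000000000000200000000000)

/-- Table data. -/
def linOrb1_0 : Tab :=
  linOrb1_0_0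

end Cfsg.Lib.CosetEnum.HeS44Pts
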