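import Cfsg.Agent.Lib.CosetEnum.Defs

/-! Generated table data. -/

set_option autoImplicit false
set_option maxRecDepth 20000

namespace Cfsg.Lib.CosetEnum.HeS44Pts

/-- Table data. -/
def linOrb2_0_0 : Tab :=
  (.leaf 0x5400002400003000005100001c00007000004b00001800006000004500000c00003000003e00000c00002000003c00000800003000002600000800002000003f00000400007000001e00000400006000003000000400003000001000000400001000004900000000003000003400000000002000000400000000001000000f00000000000000000300000000000)

/-- Table data. -/
def linOrb2_0 : Tab :=
  linOrb2_0_0

end Cfsg.Lib.CosetEnum.HeS44Pts
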