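import Cfsg.Agent.Lib.CosetEnum.Defs

/-! Generated table data. -/

set_option autoImplicit false
set_option maxRecDepth 20000

namespace Cfsg.Lib.CosetEnum.HeS44Pts

/-- Table data. -/
def linOrb3_0_0 : Tab :=
  (.leaf 0x2f00007400002000001d00006400002000004200006000003000004d00005c00003000002300004800003000002200004800002000004600003c00002000003a00003800003000004a00003800002000001a00003400003000001500003000003000003500003000002000000800002c00003000003600002800002000003d00002400003000004c00002000002000001100001c00003000004e00001c00002000002a00001800003000002900001800002000001f00001000003000002c00001000002000000500001000001000004800000c00003000001800000c00002000004100000c00000000003300000800003000004700000800002000002700000400003000002400000400002000000700000400001000002800000000003000001900000000002000000900000000001000000600000000000000000100000000000)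

/-- Table data. -/
def linOrb3_0 : Tab :=
  linOrb3_0_0

end Cfsg.Lib.CosetEnum.HeS44Pts
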