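import Cfsg.Agent.Lib.CosetEnum.Defs

/-! Generated table data. -/

set_option autoImplicit false
set_option maxRecDepth 20000

namespace Cfsg.Lib.CosetEnum.HeS44Pts

/-- Table data. -/
def tabR_0_0 : Tab :=
  (.node 1 (.leaf 0x6400000000000000005c00000000000000008400000000000000006600000000000000009300000000000000003400000000000000003200000000000000003300000000000000006500000000000000006300000000000000003600000000000000005e00000000000000008700000000000000009a00000000000000006800000000000000008e0000000000000000c000000000000000008a00000000000000008b00000000000000008c00000000000000009400000000000000004200000000000000004100000000000000003700000000000000005f00000000000000006000000000000000003a00000000000000003900000000000000001900000000000000001800000000000000001a00000000000000003800000000000000006200000000000000006a00000000000000006b00000000000000006100000000000000001f00000000000000003500000000000000002000000000000000001400000000000000001b00000000000000000a00000000000000000b00000000000000003c00000000000000001700000000000000000700000000000000000d00000000000000000900000000000000000800000000000000000200000000000000000f00000000000000000000000000000000000400000000000000001100000000000000002200000000000000000300000000000000001c00000000000000000c00000000000000001d00000000000000001300000000000000000600000000000000000100000000000000000500000000000000000e) (.leaf 0x11d0000000000000000c20000000000000000ca0000000000000001160000000000000000a30000000000000000a200000000000000009000000000000000008600000000000000008500000000000000009100000000000000005b00000000000000008f00000000000000008900000000000000008800000000000000005d00000000000000009800000000000000008d0000000000000000c50000000000000000c1000000000000000072000000000000000071))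

/-- Table data. -/
def tabR_0 : Tab :=
  tabR_0_0

end Cfsg.Lib.CosetEnum.HeS44Pts
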