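import Cfsg.Agent.Lib.CosetEnum.Defs

/-! Generated table data. -/

set_option autoImplicit false
set_option maxRecDepth 20000

namespace Cfsg.Lib.CosetEnum.HeS44Pts

/-- Table data. -/
def tabV_0_0 : Tab :=
  (.node 1 (.leaf 0x210000000000000000810000000000000000cd0000000000000000710000000000000000a40000000000000000a50000000000000000d00000000000000000900000000000000000a900000000000000002d0000000000000000350000000000000000c100000000000000008900000000000000007d0000000000000000f400000000000000003100000000000000001900000000000000007400000000000000006900000000000000001d00000000000000003d00000000000000005d0000000000000000ad0000000000000000c90000000000000000090000000000000000d10000000000000000fd0000000000000000390000000000000000250000000000000000f50000000000000000d500000000000000008400000000000000008d00000000000000009100000000000000005900000000000000006400000000000000009400000000000000000d0000000000000000b90000000000000000ed0000000000000000c40000000000000000950000000000000000650000000000000000d400000000000000005000000000000000001400000000000000004d0000000000000000010000000000000000110000000000000000440000000000000000040000000000000000150000000000000000550000000000000000540000000000000000450000000000000000750000000000000000850000000000000000c5000000000000000049000000000000000051000000000000000041000000000000000010000000000000000005000000000000000040) (.leaf 0xf10000000000000000290000000000000000b40000000000000000a10000000000000000240000000000000000bd00000000000000009d00000000000000009900000000000000006d0000000000000000b10000000000000000b50000000000000000610000000000000000dd0000000000000000790000000000000000e50000000000000000e10000000000000000e90000000000000000e40000000000000000d90000000000000000f9000000000000000034))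

/-- Table data. -/
def tabV_0 : Tab :=
  tabV_0_0

end Cfsg.Lib.CosetEnum.HeS44Pts
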