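import Cfsg.Agent.Lib.CosetEnum.HeS44Pts.TabQ_Data0
import Cfsg.Agent.Lib.CosetEnum.HeS44Pts.TabB_Data0
import Cfsg.Agent.Lib.CosetEnum.HeS44Pts.TabR_Data0
import Cfsg.Agent.Lib.CosetEnum.HeS44Pts.TabP_Data0
import Cfsg.Agent.Lib.CosetEnum.HeS44Pts.TabV_Data0
import Cfsg.Agent.Lib.CosetEnum.HeS44Pts.TabIdx_Data0
import Cfsg.Agent.Lib.CosetEnum.HeS44Pts.LinOrb0_Data0
import Cfsg.Agent.Lib.CosetEnum.HeS44Pts.LinPos0_Data0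
import Cfsg.Agent.Lib.CosetEnum.HeS44Pts.LinOrb1_Data0
import Cfsg.Agent.Lib.CosetEnum.HeS44Pts.LinPos1_Data0
import Cfsg.Agent.Lib.CosetEnum.HeS44Pts.LinOrb2_Data0
import Cfsg.Agent.Lib.CosetEnum.HeS44Pts.LinPos2_Data0
import Cfsg.Agent.Lib.CosetEnum.HeS44Pts.LinOrb3_Data0
import Cfsg.Agent.Lib.CosetEnum.HeS44Pts.LinPos3_Data0
import Cfsg.Agent.Lib.CosetEnum.HeS44Pts.FullOrb0_Data0
import Cfsg.Agent.Lib.CosetEnum.HeS44Pts.FullPos0_Data0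
import Cfsg.Agent.Lib.CosetEnum.HeS44Pts.FullOrb1_Data0
import Cfsg.Agent.Lib.CosetEnum.HeS44Pts.FullPos1_Data0
import Cfsg.Agent.Lib.CosetEnum.HeS44Pts.FullOrb2_Data0
import Cfsg.Agent.Lib.CosetEnum.HeS44Pts.FullPos2_Data0
import Cfsg.Agent.Lib.CosetEnum.HeS44Pts.FullOrb3_Data0
import Cfsg.Agent.Lib.CosetEnum.HeS44Pts.FullPos3_Data0
import Cfsg.Agent.Lib.CosetEnum.HeS44Pts.FullOrb4_Data0
import Cfsg.Agent.Lib.CosetEnum.HeS44Pts.FullPos4_Data0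
import Cfsg.Agent.Lib.CosetEnum.HeS44Pts.BigOrbit_Data0
import Cfsg.Agent.Lib.CosetEnum.HeS44Pts.BigPos_Data0

/-! Generated certificate. -/

set_option autoImplicit false
set_option maxRecDepth 20000

namespace Cfsg.Lib.CosetEnum.HeS44Pts

/-- Table. -/
def tabQ : Tab :=
  tabQ_0

/-- Table. -/
def tabB : Tab :=
  tabB_0

/-- Table. -/
def tabR : Tab :=
  tabR_0

/-- Table. -/
def tabP : Tab :=
  tabP_0

/-- Table. -/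
def tabV : Tab :=
  tabV_0

/-- Table. -/
def tabIdx : Tab :=
  tabIdx_0

/-- Table. -/
def linOrb0 : Tab :=
  linOrb0_0

/-- Table. -/
def linPos0 : Tab :=
  linPos0_0

/-- Generators of a level. -/
def linWords0 : List (List Nat) :=
  [[0],
    [1],
    [2],
    [3],
    [4],
    [6],
    [7],
    [8],
    [9],
    [10],
    [11],
    [12],
    [8, 7, 12, 9, 1],
    [6, 4, 2, 4],
    [10, 0, 10, 11, 4],
    [4, 11, 7, 4, 9, 4],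
    [1, 6, 2, 8, 4, 2, 4, 6, 1, 9, 12, 7, 8],
    [10, 11, 2, 1, 2, 4, 3],
    [9, 8, 9, 4, 0, 11, 10, 0, 10],
    [9, 12, 0, 3, 2, 4, 11, 10, 0, 10, 6, 4, 11, 10, 0, 10],
    [1, 2, 6, 8, 4, 2, 4, 1, 9, 12, 7, 8, 6],
    [10, 12, 4, 2, 1, 2, 4, 3, 4, 2, 4, 6, 3, 4, 2, 1, 2, 11, 10, 6, 4, 11, 10, 0, 10, 8, 7, 12, 9, 1, 6, 4, 2, 4, 8, 2, 6, 1]]

/-- A level of a base. -/
def linLevel0 : BaseLevel :=
  ⟨linOrb0, linPos0, 85, linWords0⟩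

/-- Table. -/
def linOrb1 : Tab :=
  linOrb1_0

/-- Table. -/
def linPos1 : Tab :=
  linPos1_0

/-- Generators of a level. -/
def linWords1 : List (List Nat) :=
  [[6],
    [8, 7, 12, 9, 1],
    [6, 4, 2, 4],
    [10, 0, 10, 11, 4],
    [4, 11, 7, 4, 9, 4],
    [1, 6, 2, 8, 4, 2, 4, 6, 1, 9, 12, 7, 8],
    [10, 11, 2, 1, 2, 4, 3],
    [9, 8, 9, 4, 0, 11, 10, 0, 10],
    [9, 12, 0, 3, 2, 4, 11, 10, 0, 10, 6, 4, 11, 10, 0, 10],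
    [1, 2, 6, 8, 4, 2, 4, 1, 9, 12, 7, 8, 6],
    [10, 12, 4, 2, 1, 2, 4, 3, 4, 2, 4, 6, 3, 4, 2, 1, 2, 11, 10, 6, 4, 11, 10, 0, 10, 8, 7, 12, 9, 1, 6, 4, 2, 4, 8, 2, 6, 1]]

/-- A level of a base. -/
def linLevel1 : BaseLevel :=
  ⟨linOrb1, linPos1, 20, linWords1⟩

/-- Table. -/
def linOrb2 : Tab :=
  linOrb2_0

/-- Table. -/
def linPos2 : Tab :=
  linPos2_0

/-- Generators of a level. -/
def linWords2 : List (List Nat) :=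
  [[10, 0, 10, 11, 4],
    [4, 11, 7, 4, 9, 4],
    [1, 6, 2, 8, 4, 2, 4, 6, 1, 9, 12, 7, 8],
    [10, 11, 2, 1, 2, 4, 3],
    [9, 8, 9, 4, 0, 11, 10, 0, 10],
    [9, 12, 0, 3, 2, 4, 11, 10, 0, 10, 6, 4, 11, 10, 0, 10],
    [1, 2, 6, 8, 4, 2, 4, 1, 9, 12, 7, 8, 6],
    [10, 12, 4, 2, 1, 2, 4, 3, 4, 2, 4, 6, 3, 4, 2, 1, 2, 11, 10, 6, 4, 11, 10, 0, 10, 8, 7, 12, 9, 1, 6, 4, 2, 4, 8, 2, 6, 1]]

/-- A level of a base. -/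
def linLevel2 : BaseLevel :=
  ⟨linOrb2, linPos2, 16, linWords2⟩

/-- Table. -/
def linOrb3 : Tab :=
  linOrb3_0

/-- Table. -/
def linPos3 : Tab :=
  linPos3_0

/-- Generators of a level. -/
def linWords3 : List (List Nat) :=
  [[9, 8, 9, 4, 0, 11, 10, 0, 10],
    [9, 12, 0, 3, 2, 4, 11, 10, 0, 10, 6, 4, 11, 10, 0, 10],
    [1, 2, 6, 8, 4, 2, 4, 1, 9, 12, 7, 8, 6],
    [10, 12, 4, 2, 1, 2, 4, 3, 4, 2, 4, 6, 3, 4, 2, 1, 2, 11, 10, 6, 4, 11, 10, 0, 10, 8, 7, 12, 9, 1, 6, 4, 2, 4, 8, 2, 6, 1]]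

/-- A level of a base. -/
def linLevel3 : BaseLevel :=
  ⟨linOrb3, linPos3, 36, linWords3⟩

/-- Table. -/
def fullOrb0 : Tab :=
  fullOrb0_0

/-- Table. -/
def fullPos0 : Tab :=
  fullPos0_0

/-- Generators of a level. -/
def fullWords0 : List (List Nat) :=
  [[0],
    [1],
    [2],
    [3],
    [4],
    [5],
    [6],
    [0, 2, 4, 6, 4, 2],
    [0, 4, 2, 3, 4, 3],
    [3, 2, 3],
    [0, 6],
    [1, 3, 6, 2, 1],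
    [5, 1, 6, 1, 6, 0],
    [4, 3, 2, 1, 2, 4, 2, 3, 1, 2, 6, 3, 2, 6, 3, 1, 3, 4, 3, 2, 4, 0, 6, 0, 1, 2, 6, 3, 1],
    [3, 6, 4, 2, 1, 2, 4, 2, 3, 1, 2, 6, 3, 2, 6, 3, 1, 3, 4, 3, 2, 4, 0, 6, 0, 1, 3, 6, 2, 1, 0, 6, 0, 4, 2, 3, 4, 3, 1, 3, 6, 2, 3, 6, 2, 1, 3, 2, 4, 2, 1, 2, 3, 4, 6, 0],
    [5, 6, 5, 1, 6, 1, 5]]

/-- A level of a base. -/
def fullLevel0 : BaseLevel :=
  ⟨fullOrb0, fullPos0, 85, fullWords0⟩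

/-- Table. -/
def fullOrb1 : Tab :=
  fullOrb1_0

/-- Table. -/
def fullPos1 : Tab :=
  fullPos1_0

/-- Generators of a level. -/
def fullWords1 : List (List Nat) :=
  [[0, 2, 4, 6, 4, 2],
    [0, 4, 2, 3, 4, 3],
    [3, 2, 3],
    [0, 6],
    [1, 3, 6, 2, 1],
    [5, 1, 6, 1, 6, 0],
    [4, 3, 2, 1, 2, 4, 2, 3, 1, 2, 6, 3, 2, 6, 3, 1, 3, 4, 3, 2, 4, 0, 6, 0, 1, 2, 6, 3, 1],
    [3, 6, 4, 2, 1, 2, 4, 2, 3, 1, 2, 6, 3, 2, 6, 3, 1, 3, 4, 3, 2, 4, 0, 6, 0, 1, 3, 6, 2, 1, 0, 6, 0, 4, 2, 3, 4, 3, 1, 3, 6, 2, 3, 6, 2, 1, 3, 2, 4, 2, 1, 2, 3, 4, 6, 0],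
    [5, 6, 5, 1, 6, 1, 5]]

/-- A level of a base. -/
def fullLevel1 : BaseLevel :=
  ⟨fullOrb1, fullPos1, 64, fullWords1⟩

/-- Table. -/
def fullOrb2 : Tab :=
  fullOrb2_0

/-- Table. -/
def fullPos2 : Tab :=
  fullPos2_0

/-- Generators of a level. -/
def fullWords2 : List (List Nat) :=
  [[0, 6],
    [1, 3, 6, 2, 1],
    [5, 1, 6, 1, 6, 0],
    [4, 3, 2, 1, 2, 4, 2, 3, 1, 2, 6, 3, 2, 6, 3, 1, 3, 4, 3, 2, 4, 0, 6, 0, 1, 2, 6, 3, 1],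
    [3, 6, 4, 2, 1, 2, 4, 2, 3, 1, 2, 6, 3, 2, 6, 3, 1, 3, 4, 3, 2, 4, 0, 6, 0, 1, 3, 6, 2, 1, 0, 6, 0, 4, 2, 3, 4, 3, 1, 3, 6, 2, 3, 6, 2, 1, 3, 2, 4, 2, 1, 2, 3, 4, 6, 0],
    [5, 6, 5, 1, 6, 1, 5]]

/-- A level of a base. -/
def fullLevel2 : BaseLevel :=
  ⟨fullOrb2, fullPos2, 15, fullWords2⟩

/-- Table. -/
def fullOrb3 : Tab :=
  fullOrb3_0

/-- Table. -/
def fullPos3 : Tab :=
  fullPos3_0

/-- Generators of a level. -/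
def fullWords3 : List (List Nat) :=
  [[5, 1, 6, 1, 6, 0],
    [4, 3, 2, 1, 2, 4, 2, 3, 1, 2, 6, 3, 2, 6, 3, 1, 3, 4, 3, 2, 4, 0, 6, 0, 1, 2, 6, 3, 1],
    [3, 6, 4, 2, 1, 2, 4, 2, 3, 1, 2, 6, 3, 2, 6, 3, 1, 3, 4, 3, 2, 4, 0, 6, 0, 1, 3, 6, 2, 1, 0, 6, 0, 4, 2, 3, 4, 3, 1, 3, 6, 2, 3, 6, 2, 1, 3, 2, 4, 2, 1, 2, 3, 4, 6, 0],
    [5, 6, 5, 1, 6, 1, 5]]

/-- A level of a base. -/
def fullLevel3 : BaseLevel :=
  ⟨fullOrb3, fullPos3, 12, fullWords3⟩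

/-- Table. -/
def fullOrb4 : Tab :=
  fullOrb4_0

/-- Table. -/
def fullPos4 : Tab :=
  fullPos4_0

/-- Generators of a level. -/
def fullWords4 : List (List Nat) :=
  [[5, 6, 5, 1, 6, 1, 5]]

/-- A level of a base. -/
def fullLevel4 : BaseLevel :=
  ⟨fullOrb4, fullPos4, 2, fullWords4⟩

/-- Table. -/
def bigOrbit : Tab :=
  bigOrbit_0

/-- Table. -/
def bigPos : Tab :=
  bigPos_0

/-- The involution words generating the subgroup. -/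
def invWords : List (List Nat) :=
  [[0],
    [2],
    [3],
    [4],
    [5],
    [1, 0, 1, 0],
    [1, 2, 3, 4, 1, 2, 3, 4, 1, 2, 3, 4, 1, 2, 3, 4, 1, 2, 3, 4, 1, 2, 3, 4, 1, 2, 3, 4, 0, 4, 3, 2, 1, 4, 3, 2, 1, 4, 3, 2, 1, 4, 3, 2, 1, 4, 3, 2, 1, 4, 3, 2, 1, 4, 3, 2, 1]]

/-- The last generator in the involutions. -/
def cubeWord : List Nat :=
  [6, 0]

/-- The linear letters. -/
def linear : List Nat :=
  [0, 1, 2, 3, 4, 6, 7, 8, 9, 10, 11, 12]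

/-- The conjugated letters as words. -/
def extraWords : List (List Nat) :=
  [[5, 0, 5],
    [5, 1, 5],
    [5, 2, 5],
    [5, 3, 5],
    [5, 4, 5],
    [5, 6, 5]]

/-- The matrices of the linear letters, by rows. -/
def mats : List (List Nat) :=
  [[1, 4, 21, 69],
    [169, 172, 16, 232],
    [81, 84, 21, 69],
    [85, 80, 21, 17],
    [80, 85, 68, 69],
    [20, 4, 5, 85],
    [1, 4, 21, 69],
    [253, 248, 16, 188],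
    [81, 84, 21, 69],
    [85, 80, 21, 17],
    [80, 85, 68, 69],
    [20, 4, 5, 85]]

end Cfsg.Lib.CosetEnum.HeS44Pts
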