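import Cfsg.Agent.Lib.CosetEnum.Defs

/-! Generated table data. -/

set_option autoImplicit false
set_option maxRecDepth 20000

namespace Cfsg.Lib.CosetEnum.HeS44Pts

/-- Table data. -/
def fullPos0_0_0 : Tab :=
  (.node 1 (.leaf 0x3d00000000000000002b00000000000000001d00000000000000004800000000000000003b00000000000000000e00000000000000003200000000000000003100000000000000003800000000000000003700000000000000003000000000000000003600000000000000002d00000000000000004700000000000000002400000000000000005400000000000000004300000000000000003a00000000000000005300000000000000004600000000000000003e00000000000000001300000000000000000d00000000000000003f00000000000000002f00000000000000004500000000000000001b00000000000000001a00000000000000001400000000000000001f00000000000000001100000000000000001000000000000000003900000000000000002700000000000000003400000000000000004400000000000000001700000000000000001800000000000000003500000000000000001900000000000000000700000000000000000800000000000000000600000000000000001c00000000000000004d00000000000000001500000000000000002900000000000000002800000000000000002300000000000000000b00000000000000000900000000000000000c00000000000000000400000000000000002200000000000000000200000000000000000f00000000000000000100000000000000000500000000000000001200000000000000002600000000000000002500000000000000000a000000000000000003000000000000000000) (.leaf 0x5100000000000000004900000000000000002a00000000000000004f00000000000000004200000000000000002e00000000000000004000000000000000004a00000000000000002000000000000000004e00000000000000001600000000000000005000000000000000003300000000000000004b00000000000000002100000000000000004c00000000000000003c00000000000000004100000000000000005200000000000000002c00000000000000001e))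

/-- Table data. -/
def fullPos0_0 : Tab :=
  fullPos0_0_0

end Cfsg.Lib.CosetEnum.HeS44Pts
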